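import Cfsg.Agent.Lib.Zipper.Generalized
import Mathlib.GroupTheory.Nilpotent

/-!
# Consequences of the generalized zipper lemma
-/

set_option autoImplicit false

open Subgroup
open scoped Pointwise

namespace CfsgLib.Zipper

universe u

variable {G : Type u} [Group G]

/-- The proper subgroups containing `A` and generated by their own conjugates of `A`. -/
def closedOver (A : Subgroup G) : Set (Subgroup G) :=
  {H | A ≤ H ∧ H ≠ ⊤ ∧ normalClosure ((A.subgroupOf H : Subgroup H) : Set H) = ⊤}

theorem closure_eq_top_of_le {A H Y : Subgroup G} (hAH : A ≤ H) (hHY : H ≤ Y)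
    (hH : normalClosure ((A.subgroupOf H : Subgroup H) : Set H) = ⊤) :
    H ≤ (normalClosure ((A.subgroupOf Y : Subgroup Y) : Set Y)).map Y.subtype := by
  have h1 : normalClosure ((A.subgroupOf H : Subgroup H) : Set H) ≤
      (normalClosure ((A.subgroupOf Y : Subgroup Y) : Set Y)).comap (Subgroup.inclusion hHY) :=
    normalClosure_le_normal fun x hx => subset_normalClosure (by exact hx)
  rw [hH, top_le_iff] at h1
  intro x hx
  exact ⟨⟨x, hHY hx⟩, h1.ge (mem_top (⟨x, hx⟩ : H)), rfl⟩

theorem closedOver_mono {A B : Subgroup G} (hB : B ∈ closedOver A) :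
    closedOver B ⊆ closedOver A := by
  rintro H ⟨hBH, hHt, hH⟩
  refine ⟨hB.1.trans hBH, hHt, top_le_iff.mp (hH ▸ normalClosure_le_normal ?_)⟩
  intro x hx
  obtain ⟨y, hy, hyx⟩ := closure_eq_top_of_le hB.1 hBH hB.2.2 hx
  rwa [show x = y from Subtype.ext hyx.symm]

theorem sSup_closedOver_mem {A : Subgroup G} (hA : A ≠ ⊤)
    (h : sSup (closedOver A) ≠ ⊤) : sSup (closedOver A) ∈ closedOver A := by
  have hmem : A ∈ closedOver A := ⟨le_rfl, hA, by
    rw [subgroupOf_self, eq_top_iff]
    exact fun x _ => subset_normalClosure (mem_top x)⟩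
  have hAY : A ≤ sSup (closedOver A) := le_sSup hmem
  refine ⟨hAY, h, ?_⟩
  have hle : sSup (closedOver A) ≤
      (normalClosure ((A.subgroupOf (sSup (closedOver A)) : Subgroup _) :
        Set (sSup (closedOver A) : Subgroup G))).map (sSup (closedOver A)).subtype :=
    sSup_le fun H hH => closure_eq_top_of_le hH.1 (le_sSup hH) hH.2.2
  rw [eq_top_iff]
  intro y _
  obtain ⟨z, hz, hzy⟩ := hle y.2
  rwa [show y = z from Subtype.ext hzy.symm]

variable [Finite G]

/-- Every proper overgroup of `A` has a subnormal subgroup in `closedOver A`. -/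
theorem exists_core {A M : Subgroup G} (hM : A ≤ M) (hMt : M ≠ ⊤) :
    ∃ H ∈ closedOver A, H ≤ M ∧ (H.subgroupOf M).IsSubnormal := by
  obtain ⟨H, ⟨hAH, hHM, hHsn⟩, hmin⟩ := Set.Finite.exists_minimal
    (Set.toFinite {H : Subgroup G | A ≤ H ∧ H ≤ M ∧ (H.subgroupOf M).IsSubnormal})
    ⟨M, hM, le_rfl, by rw [subgroupOf_self]; exact IsSubnormal.top⟩
  refine ⟨H, ⟨hAH, fun h => hMt (top_le_iff.mp (h ▸ hHM)), ?_⟩, hHM, hHsn⟩
  set N := normalClosure ((A.subgroupOf H : Subgroup H) : Set H) with hN
  have h1 : N.map H.subtype ≤ H := map_subtype_le _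
  have h2 : H ≤ N.map H.subtype := hmin ⟨fun a ha => ⟨⟨a, hAH ha⟩,
      subset_normalClosure ha, rfl⟩, h1.trans hHM, by
    refine IsSubnormal.step _ (H.subgroupOf M) (fun x hx => h1 hx) hHsn ?_
    refine normal_subgroupOf_of_le_normalizer fun x hx => ?_
    refine mem_normalizer_iff.mpr fun y => ?_
    have hn : ∀ g y : G, g ∈ H → y ∈ N.map H.subtype → g * y * g⁻¹ ∈ N.map H.subtype := by
      rintro g _ hg ⟨z, hz, rfl⟩
      exact ⟨_, (inferInstance : N.Normal).conj_mem z hz ⟨g, hg⟩, rfl⟩
    simp only [mem_subgroupOf, Subgroup.coe_mul, Subgroup.coe_inv]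
    refine ⟨hn _ _ hx, fun h => ?_⟩
    have := hn _ _ (inv_mem hx) h
    simpa [mul_assoc] using this⟩ h1
  rw [eq_top_iff]
  intro y _
  obtain ⟨z, hz, hzy⟩ := h2 y.2
  rwa [show y = z from Subtype.ext hzy.symm]

/-- If the join of `closedOver A` is proper, `A` lies in a unique maximal subgroup. -/
theorem existsUnique_of_sSup_ne_top :
    ∀ A : Subgroup G, normalClosure (A : Set G) = ⊤ → A ≠ ⊤ → sSup (closedOver A) ≠ ⊤ →
      ∃! M : Subgroup G, IsCoatom M ∧ A ≤ M := by
  intro A
  induction A using WellFoundedGT.induction with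
  | ind A ih =>
    intro hA hne hY
    refine existsUnique_maximal A hA hne fun M N hM hN => ?_
    have hYmem := sSup_closedOver_mem hne hY
    have hcore : ∀ M, Bad A M → A < sSup (closedOver A) ∧
        ∀ M', IsCoatom M' → sSup (closedOver A) ≤ M' → M' = M := by
      intro M hM
      obtain ⟨H, hH, hHM, hHsn⟩ := exists_core hM.2.1 hM.1.1
      have hlt : A < H := lt_of_le_of_ne hH.1 fun e => hM.2.2 (e ▸ hHsn)
      refine ⟨hlt.trans_le (le_sSup hH), fun M' hM' hle => ?_⟩
      have hY' : sSup (closedOver H) ≠ ⊤ :=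
        ne_top_of_le_ne_top hY (sSup_le_sSup (closedOver_mono hH))
      exact (ih H hlt (normal_closure_mono hlt.le hA) hH.2.1 hY').unique
        ⟨hM', (le_sSup hH).trans hle⟩ ⟨hM.1, hHM⟩
    obtain ⟨P, hP, hPle⟩ : ∃ P, IsCoatom P ∧ sSup (closedOver A) ≤ P :=
      (eq_top_or_exists_le_coatom _).resolve_left hY
    exact ((hcore M hM).2 P hP hPle).symm.trans ((hcore N hN).2 P hP hPle)

/-- If `s ↦ s a s⁻¹` pushes `d` into the unique maximal subgroup containing `a`, `d` is in it. -/
theorem mem_of_iterate_mem {a : G} (hA : normalClosure ((zpowers a : Subgroup G) : Set G) = ⊤)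
    {M : Subgroup G} (hM : IsCoatom M ∧ zpowers a ≤ M)
    (huniq : ∀ N : Subgroup G, IsCoatom N ∧ zpowers a ≤ N → N = M) :
    ∀ (j : ℕ) (d : G), (fun s => s * a * s⁻¹)^[j] d ∈ M → d ∈ M := by
  intro j
  induction j with
  | zero => exact fun d h => h
  | succ j ih =>
    intro d h
    rw [Function.iterate_succ_apply] at h
    have h1 : d * a * d⁻¹ ∈ M := ih _ h
    have h2 : a ∈ MulAut.conj d⁻¹ • M :=
      ⟨_, h1, by simp [mul_assoc]⟩
    have h3 : MulAut.conj d⁻¹ • M = M :=
      huniq _ ⟨isCoatom_smul hM.1 _, zpowers_le.mpr h2⟩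
    have h4 : d⁻¹ ∈ normalizer (M : Set G) := CfsgLib.Subnormal.mem_normalizer_iff_smul.mpr h3
    rw [normalizer_coatom hM.1 hM.2 hA] at h4
    exact inv_mem_iff.mp h4

omit [Finite G] in
/-- The normal closure of `a` is contained in any subgroup containing all its conjugates. -/
theorem normalClosure_zpowers_le {a : G} {M : Subgroup G} (h : ∀ g : G, g * a * g⁻¹ ∈ M) :
    normalClosure ((zpowers a : Subgroup G) : Set G) ≤ M := by
  refine (closure_le M).mpr fun x hx => ?_
  obtain ⟨y, ⟨k, rfl⟩, hyx⟩ := Group.mem_conjugatesOfSet_iff.mp hx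
  obtain ⟨g, rfl⟩ := isConj_iff.mp hyx
  simpa [conj_zpow] using zpow_mem (h g) k

/-- If iterating `s ↦ s a s⁻¹` on every conjugate of `a` ends in a subgroup containing `a`,
and `a` normally generates the group, the subgroup is the whole group. -/
theorem eq_top_of_iterate_mem : ∀ (G : Type u) [Group G] [Finite G] (a : G) (K : Subgroup G)
    (j : ℕ), normalClosure ((zpowers a : Subgroup G) : Set G) = ⊤ → a ∈ K →
    (∀ g : G, (fun s => s * a * s⁻¹)^[j] (g * a * g⁻¹) ∈ K) → K = ⊤ := by
  intro G _ _
  induction hn : Nat.card G using Nat.strong_induction_on generalizing G with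
  | _ n ih =>
    intro a K j hA haK hK
    subst hn
    by_contra hKt
    obtain ⟨M₀, hM₀, hKM⟩ := (eq_top_or_exists_le_coatom K).resolve_left hKt
    have hsub : sSup (closedOver (zpowers a)) ≤ K := by
      refine sSup_le fun H ⟨haH, hHt, hH⟩ => ?_
      have haH' : a ∈ H := haH (mem_zpowers a)
      have hlt : Nat.card H < Nat.card G :=
        lt_of_le_of_ne (card_le_card_group H) fun e => hHt (eq_top_of_card_eq H e)
      have hzp : zpowers (⟨a, haH'⟩ : H) = (zpowers a).subgroupOf H := by
        apply map_injective (f := H.subtype) H.subtype_injective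
        rw [MonoidHom.map_zpowers, map_subgroupOf_eq_of_le haH]
        rfl
      have key : ∀ (i : ℕ) (d : H), (((fun s : H => s * ⟨a, haH'⟩ * s⁻¹)^[i] d : H) : G) =
          (fun s : G => s * a * s⁻¹)^[i] d := by
        intro i
        induction i with
        | zero => exact fun d => rfl
        | succ i ihi => exact fun d => by rw [Function.iterate_succ_apply, ihi]; rfl
      have := ih _ hlt H rfl ⟨a, haH'⟩ (K.subgroupOf H) j (by rw [hzp]; exact hH) haK fun g => by
        show ((_ : H) : G) ∈ K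
        rw [key]
        exact hK g
      exact subgroupOf_eq_top.mp this
    have hY : sSup (closedOver (zpowers a)) ≠ ⊤ := ne_top_of_le_ne_top hKt hsub
    have haM : zpowers a ≤ M₀ := zpowers_le.mpr (hKM haK)
    have hne : zpowers a ≠ ⊤ := ne_top_of_le_ne_top hM₀.1 haM
    obtain ⟨M, hM, huniq⟩ := existsUnique_of_sSup_ne_top (zpowers a) hA hne hY
    have hall : ∀ g : G, g * a * g⁻¹ ∈ M := fun g =>
      mem_of_iterate_mem hA hM huniq j _ (huniq M₀ ⟨hM₀, haM⟩ ▸ hKM (hK g))
    exact hM.1.1 (top_le_iff.mp (hA ▸ normalClosure_zpowers_le hall))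

/-- **Baer:** the cyclic subgroup generated by a left Engel element is subnormal. -/
theorem isSubnormal_zpowers_of_engel : ∀ (G : Type u) [Group G] [Finite G] (a : G),
    (∀ g : G, ∃ j : ℕ, (fun s => s * a * s⁻¹)^[j] (g * a * g⁻¹) = a) →
    (zpowers a).IsSubnormal := by
  intro G _ _
  induction hn : Nat.card G using Nat.strong_induction_on generalizing G with
  | _ n ih =>
    intro a ha
    subst hn
    have hrec : ∀ H : Subgroup G, H ≠ ⊤ → a ∈ H → ((zpowers a).subgroupOf H).IsSubnormal := by
      intro H hHt haH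
      have hlt : Nat.card H < Nat.card G :=
        lt_of_le_of_ne (card_le_card_group H) fun e => hHt (eq_top_of_card_eq H e)
      have hzp : zpowers (⟨a, haH⟩ : H) = (zpowers a).subgroupOf H := by
        apply map_injective (f := H.subtype) H.subtype_injective
        rw [MonoidHom.map_zpowers, map_subgroupOf_eq_of_le (zpowers_le.mpr haH)]
        rfl
      have key : ∀ (i : ℕ) (d : H), (((fun s : H => s * ⟨a, haH⟩ * s⁻¹)^[i] d : H) : G) =
          (fun s : G => s * a * s⁻¹)^[i] d := by
        intro i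
        induction i with
        | zero => exact fun d => rfl
        | succ i ihi => exact fun d => by rw [Function.iterate_succ_apply, ihi]; rfl
      rw [← hzp]
      exact ih _ hlt H rfl ⟨a, haH⟩ fun g => (ha g).imp fun j hj => Subtype.ext (by rw [key]; exact hj)
    by_cases hA : normalClosure ((zpowers a : Subgroup G) : Set G) = ⊤
    · rcases eq_top_or_exists_le_coatom (zpowers a) with h | ⟨M₀, hM₀, haM⟩
      · rw [h]; exact IsSubnormal.top
      exfalso
      have hne : zpowers a ≠ ⊤ := ne_top_of_le_ne_top hM₀.1 haM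
      obtain ⟨M, hM, huniq⟩ := existsUnique_maximal (zpowers a) hA hne fun X Y hX _ =>
        absurd (hrec X hX.1.1 (hX.2.1 (mem_zpowers a))) hX.2.2
      have hall : ∀ g : G, g * a * g⁻¹ ∈ M := fun g => by
        obtain ⟨j, hj⟩ := ha g
        refine mem_of_iterate_mem hA hM huniq j _ ?_
        rw [hj]
        exact hM.2 (mem_zpowers a)
      exact hM.1.1 (top_le_iff.mp (hA ▸ normalClosure_zpowers_le hall))
    · refine IsSubnormal.trans (le_normalClosure (H := zpowers a))
        (hrec _ hA (le_normalClosure (mem_zpowers a))) ?_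
      exact (normalClosure_normal).isSubnormal

end CfsgLib.Zipper
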