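import Cfsg.Agent.Lib.Subnormal.Join
import Mathlib.GroupTheory.GroupAction.ConjAct
import Mathlib.Order.Atoms.Finite

/-!
# A generalized zipper lemma

If the normal closure of `A` is the whole finite group and `A` is subnormal in all but at most
one of the maximal subgroups containing it, then only one maximal subgroup contains it.
-/

set_option autoImplicit false

open Subgroup
open scoped Pointwise

namespace CfsgLib.Zipper

universe u

variable {G : Type u} [Group G] [Finite G]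

/-- `M` is a maximal subgroup containing `A` in which `A` is not subnormal. -/
def Bad (A M : Subgroup G) : Prop :=
  IsCoatom M ∧ A ≤ M ∧ ¬ (A.subgroupOf M).IsSubnormal

omit [Finite G] in
theorem normal_closure_mono {A B : Subgroup G} (h : A ≤ B)
    (hA : normalClosure (A : Set G) = ⊤) : normalClosure (B : Set G) = ⊤ :=
  top_le_iff.mp (hA ▸ normalClosure_mono h)

omit [Finite G] in
theorem normalizer_ne_top {R M : Subgroup G} (hM : IsCoatom M) (hR : R ≤ M)
    (hcl : normalClosure (R : Set G) = ⊤) : normalizer (R : Set G) ≠ ⊤ := by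
  intro h
  have hn : R.Normal := normalizer_eq_top_iff.mp h
  have : (⊤ : Subgroup G) ≤ R := hcl ▸ normalClosure_le_normal le_rfl
  exact hM.1 (top_le_iff.mp (this.trans hR))

omit [Finite G] in
theorem normalizer_coatom {A M : Subgroup G} (hM : IsCoatom M) (hA : A ≤ M)
    (hcl : normalClosure (A : Set G) = ⊤) : normalizer (M : Set G) = M := by
  rcases hM.le_iff.mp (le_normalizer (H := M)) with h | h
  · exact absurd h (normalizer_ne_top hM le_rfl (normal_closure_mono hA hcl))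
  · exact h

omit [Finite G] in
theorem isCoatom_smul {M : Subgroup G} (hM : IsCoatom M) (g : G) :
    IsCoatom (MulAut.conj g • M) :=
  (OrderIso.isCoatom_iff (MulEquiv.mapSubgroup (MulAut.conj g)) M).mpr hM

omit [Finite G] in
theorem subgroupOf_smul (A M : Subgroup G) (g : G) :
    (MulAut.conj g • A).subgroupOf (MulAut.conj g • M) =
      (A.subgroupOf M).map (Subgroup.equivSMul (MulAut.conj g) M).toMonoidHom := by
  ext ⟨x, hx⟩
  constructor
  · rintro ⟨a, ha, rfl⟩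
    obtain ⟨m, hm, hma⟩ := hx
    have : m = a := (MulAut.conj g).injective hma
    exact ⟨⟨a, this ▸ hm⟩, ha, Subtype.ext rfl⟩
  · rintro ⟨⟨a, ha'⟩, ha, h⟩
    exact ⟨a, ha, congrArg Subtype.val h⟩

omit [Finite G] in
theorem Bad.smul {A M : Subgroup G} (h : Bad A M) (g : G) :
    Bad (MulAut.conj g • A) (MulAut.conj g • M) := by
  refine ⟨isCoatom_smul h.1 g, pointwise_smul_le_pointwise_smul_iff.mpr h.2.1, fun hsn => h.2.2 ?_⟩
  rw [subgroupOf_smul] at hsn
  have h2 := hsn.map (f := (Subgroup.equivSMul (MulAut.conj g) M).symm.toMonoidHom)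
    (Subgroup.equivSMul (MulAut.conj g) M).symm.surjective
  rw [map_map] at h2
  convert h2
  conv_lhs => rw [← map_id (A.subgroupOf M)]
  congr 1
  ext x
  simp

theorem exists_bad_of_sSup {S : Set (Subgroup G)} {M : Subgroup G} (h : Bad (sSup S) M) :
    ∃ C ∈ S, Bad C M := by
  by_contra hno
  push Not at hno
  have hle : ∀ C ∈ S, C ≤ M := fun C hC => (le_sSup hC).trans h.2.1
  have hsn : ∀ U ∈ (fun C : Subgroup G => C.subgroupOf M) '' S, U.IsSubnormal := by
    rintro _ ⟨C, hC, rfl⟩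
    by_contra hns
    exact hno C hC ⟨h.1, hle C hC, hns⟩
  have := CfsgLib.Subnormal.isSubnormal_sSup hsn
  refine h.2.2 ?_
  convert this
  apply map_injective (f := M.subtype) M.subtype_injective
  rw [map_subgroupOf_eq_of_le h.2.1, sSup_image, Subgroup.map_iSup, sSup_eq_iSup]
  refine iSup_congr fun C => ?_
  rw [Subgroup.map_iSup]
  exact iSup_congr fun hC => (map_subgroupOf_eq_of_le (hle C hC)).symm

/-- **Generalized zipper lemma.** -/
theorem eq_of_bad_subsingleton (A : Subgroup G) (hA : normalClosure (A : Set G) = ⊤)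
    (hbad : ∀ M N, Bad A M → Bad A N → M = N) :
    ∀ M N : Subgroup G, IsCoatom M → IsCoatom N → A ≤ M → A ≤ N → M = N := by
  classical
  by_contra hne
  push Not at hne
  let F : Set (Subgroup G) := {B | normalClosure (B : Set G) = ⊤ ∧
    (∀ M N, Bad B M → Bad B N → M = N) ∧
    ∃ M N, IsCoatom M ∧ IsCoatom N ∧ B ≤ M ∧ B ≤ N ∧ M ≠ N}
  have hAF : A ∈ F := ⟨hA, hbad, hne⟩
  obtain ⟨B, hBF, hBmax⟩ := Set.Finite.exists_maximal (Set.toFinite F) ⟨A, hAF⟩
  obtain ⟨hBcl, hBbad, M₁, M₂, hM₁, hM₂, hB₁, hB₂, h12⟩ := hBF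
  let IsC : Subgroup G → Prop := fun C => ∃ g : G, C = MulAut.conj g • B
  have hCcl : ∀ C, IsC C → normalClosure (C : Set G) = ⊤ := by
    rintro _ ⟨g, rfl⟩
    rw [eq_top_iff, ← hBcl]
    refine normalClosure_le_normal fun b hb => ?_
    have h1 : g * b * g⁻¹ ∈ MulAut.conj g • B := ⟨b, hb, rfl⟩
    have h2 := (normalClosure_normal (s := ((MulAut.conj g • B : Subgroup G) : Set G))).conj_mem _
      (subset_normalClosure h1) g⁻¹
    simpa [mul_assoc] using h2
  have hCbad : ∀ C, IsC C → ∀ M N, Bad C M → Bad C N → M = N := by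
    rintro _ ⟨g, rfl⟩ M N hM hN
    have h1 := hBbad _ _ (by simpa [← mul_smul, ← map_mul] using hM.smul g⁻¹)
      (by simpa [← mul_smul, ← map_mul] using hN.smul g⁻¹)
    exact MulAction.injective _ h1
  have hCsmul : ∀ C, IsC C → ∀ v : G, IsC (MulAut.conj v • C) := by
    rintro _ ⟨g, rfl⟩ v
    exact ⟨v * g, by rw [map_mul, mul_smul]⟩
  -- two conjugates inside two maximal subgroups
  have pair : ∀ C D, IsC C → IsC D → C ≠ D → ∀ M N, IsCoatom M → IsCoatom N → M ≠ N →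
      C ≤ M → C ≤ N → D ≤ M → D ≤ N → ∃ X, Bad C X ∧ D ≤ X ∧ ¬ Bad D X := by
    intro C D hC hD hCD M N hM hN hMN hCM hCN hDM hDN
    have hnot : ∃ X Y, Bad (sSup {C, D}) X ∧ Bad (sSup {C, D}) Y ∧ X ≠ Y := by
      by_contra hcon
      push Not at hcon
      obtain ⟨g, rfl⟩ := hC
      set J := sSup ({MulAut.conj g • B, D} : Set (Subgroup G)) with hJ
      have hle : B ≤ MulAut.conj g⁻¹ • J := by
        rw [map_inv, subset_pointwise_smul_iff, inv_inv]
        exact le_sSup (Set.mem_insert _ _)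
      have hJF : MulAut.conj g⁻¹ • J ∈ F := by
        refine ⟨normal_closure_mono hle hBcl, fun X Y hX hY => ?_, MulAut.conj g⁻¹ • M,
          MulAut.conj g⁻¹ • N, isCoatom_smul hM _, isCoatom_smul hN _, ?_, ?_, ?_⟩
        · have h1 := hcon _ _ (by simpa [← mul_smul, ← map_mul] using hX.smul g)
            (by simpa [← mul_smul, ← map_mul] using hY.smul g)
          exact MulAction.injective (MulAut.conj g) h1
        · refine pointwise_smul_le_pointwise_smul_iff.mpr (sSup_le ?_)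
          rintro _ (rfl | rfl)
          exacts [hCM, hDM]
        · refine pointwise_smul_le_pointwise_smul_iff.mpr (sSup_le ?_)
          rintro _ (rfl | rfl)
          exacts [hCN, hDN]
        · exact fun h => hMN (MulAction.injective _ h)
      have hBJ : MulAut.conj g⁻¹ • J ≤ B := hBmax hJF hle
      obtain ⟨g', rfl⟩ := hD
      have hDle : MulAut.conj g' • B ≤ MulAut.conj g • B := by
        refine (le_sSup (Set.mem_insert_of_mem _ (Set.mem_singleton _))).trans (b := J) ?_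
        have h1 := pointwise_smul_le_pointwise_smul_iff (a := MulAut.conj g).mpr hBJ
        simpa [← mul_smul, ← map_mul] using h1
      exact hCD (eq_of_le_of_card_ge hDle (le_of_eq (Nat.card_congr
        ((equivSMul (MulAut.conj g) B).symm.trans (equivSMul (MulAut.conj g') B)).toEquiv))).symm
    obtain ⟨X, Y, hX, hY, hXY⟩ := hnot
    have hCX := fun Z (hZ : Bad (sSup ({C, D} : Set (Subgroup G))) Z) => exists_bad_of_sSup hZ
    have hDle : ∀ Z, Bad (sSup ({C, D} : Set (Subgroup G))) Z → D ≤ Z := fun Z hZ =>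
      (le_sSup (Set.mem_insert_of_mem _ (Set.mem_singleton _))).trans hZ.2.1
    obtain ⟨Z₁, hZ₁, h1⟩ := hCX X hX
    obtain ⟨Z₂, hZ₂, h2⟩ := hCX Y hY
    simp only [Set.mem_insert_iff, Set.mem_singleton_iff] at hZ₁ hZ₂
    rcases hZ₁ with rfl | rfl <;> rcases hZ₂ with rfl | rfl
    · exact absurd (hCbad _ hC _ _ h1 h2) hXY
    · exact ⟨X, h1, hDle X hX, fun h => hXY (hCbad _ hD _ _ h h2)⟩
    · exact ⟨Y, h2, hDle Y hY, fun h => hXY (hCbad _ hD _ _ h1 h)⟩
    · exact absurd (hCbad _ hD _ _ h1 h2) hXY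
  -- a pair of maximal subgroups sharing two conjugates
  have hBC : IsC B := ⟨1, by rw [map_one, one_smul]⟩
  obtain ⟨P, hP, hNP⟩ : ∃ P, IsCoatom P ∧ normalizer (B : Set G) ≤ P ∧
      True := by
    rcases eq_top_or_exists_le_coatom (normalizer (B : Set G)) with h | ⟨P, hP, h⟩
    · exact absurd h (normalizer_ne_top hM₁ hB₁ hBcl)
    · exact ⟨P, hP, h, trivial⟩
  obtain ⟨P, hP, hNP, M, hM, hBM, hMP, hgood⟩ : ∃ P, IsCoatom P ∧ normalizer (B : Set G) ≤ P ∧
      ∃ M, IsCoatom M ∧ B ≤ M ∧ M ≠ P ∧ ¬ Bad B M := by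
    by_cases hb : ∃ M₀, Bad B M₀
    · obtain ⟨M₀, hM₀⟩ := hb
      refine ⟨M₀, hM₀.1, fun n hn => ?_, ?_⟩
      · have h1 := hM₀.smul n
        rw [CfsgLib.Subnormal.mem_normalizer_iff_smul.mp hn] at h1
        have h2 := hBbad _ _ h1 hM₀
        rw [← normalizer_coatom hM₀.1 hM₀.2.1 hBcl]
        exact CfsgLib.Subnormal.mem_normalizer_iff_smul.mpr h2
      · rcases ne_or_eq M₁ M₀ with h | h
        · exact ⟨M₁, hM₁, hB₁, h, fun hb => h (hBbad _ _ hb hM₀)⟩
        · exact ⟨M₂, hM₂, hB₂, h ▸ h12.symm, fun hb => h12 (h.trans (hBbad _ _ hb hM₀).symm)⟩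
    · refine ⟨P, hP, hNP.1, ?_⟩
      rcases ne_or_eq M₁ P with h | h
      · exact ⟨M₁, hM₁, hB₁, h, fun hb' => hb ⟨_, hb'⟩⟩
      · exact ⟨M₂, hM₂, hB₂, h ▸ h12.symm, fun hb' => hb ⟨_, hb'⟩⟩
  let T : Subgroup G → Set (Subgroup G) := fun K => {C | IsC C ∧ C ≤ K}
  have htwo : ∃ D ∈ T (M ⊓ P), D ≠ B := by
    let S : Set (Subgroup G) := {U | ∃ v ∈ M, U = MulAut.conj v • B}
    have hSM : ∀ U ∈ S, U ≤ M := by
      rintro _ ⟨v, hv, rfl⟩
      exact (pointwise_smul_le_pointwise_smul_iff.mpr hBM).trans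
        (CfsgLib.Subnormal.mem_normalizer_iff_smul.mp (le_normalizer hv)).le
    have hSsn : ∀ U ∈ S, (U.subgroupOf M).IsSubnormal := by
      rintro _ ⟨v, hv, rfl⟩
      by_contra hns
      have hb : Bad (MulAut.conj v • B) M := ⟨hM, hSM _ ⟨v, hv, rfl⟩, hns⟩
      have h1 := hb.smul v⁻¹
      rw [← mul_smul, ← map_mul, inv_mul_cancel, map_one, one_smul,
        CfsgLib.Subnormal.mem_normalizer_iff_smul.mp (le_normalizer (inv_mem hv))] at h1
      exact hgood h1
    have hss : ({B} : Set (Subgroup G)) ⊂ S := by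
      refine ⟨Set.singleton_subset_iff.mpr ⟨1, one_mem _, by rw [map_one, one_smul]⟩, fun hsub => ?_⟩
      have : M ≤ normalizer (B : Set G) := fun v hv =>
        CfsgLib.Subnormal.mem_normalizer_iff_smul.mpr (hsub ⟨v, hv, rfl⟩)
      exact hMP ((hM.le_iff_eq hP.1).mp (this.trans hNP)).symm
    obtain ⟨U, hU, hU0, hUN⟩ := CfsgLib.Subnormal.exists_mem_le_normalizer_rel M S {B} hSM hSsn
      (by
        rintro _ ⟨w, hw, rfl⟩ v hv
        exact ⟨v * w, mul_mem hv hw, by rw [map_mul, mul_smul]⟩) hss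
    rw [sSup_singleton] at hUN
    obtain ⟨v, hv, rfl⟩ := hU
    exact ⟨_, ⟨⟨v, rfl⟩, le_inf (hSM _ ⟨v, hv, rfl⟩) (hUN.trans hNP)⟩, hU0⟩
  obtain ⟨⟨V, W⟩, ⟨hV, hW, hVW⟩, hmax⟩ := Set.exists_max_image
    {q : Subgroup G × Subgroup G | IsCoatom q.1 ∧ IsCoatom q.2 ∧ q.1 ≠ q.2}
    (fun q => (T (q.1 ⊓ q.2)).ncard) (Set.toFinite _) ⟨(M, P), hM, hP, hMP⟩
  dsimp only at hV hW hVW hmax
  set T₀ := T (V ⊓ W) with hT₀
  have h2 : ∀ C ∈ T₀, ∃ D ∈ T₀, D ≠ C := by
    intro C hC
    obtain ⟨D, hD, hDB⟩ := htwo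
    have hle2 : 2 ≤ T₀.ncard := by
      refine le_trans ?_ (hmax (M, P) ⟨hM, hP, hMP⟩)
      rw [← Set.ncard_pair hDB]
      refine Set.ncard_le_ncard ?_ (Set.toFinite _)
      rintro _ (rfl | rfl)
      exacts [hD, ⟨hBC, le_inf hBM (le_normalizer.trans hNP)⟩]
    exact Set.exists_ne_of_one_lt_ncard (by omega) C
  have hphi : ∀ C ∈ T₀, ∃ X, Bad C X ∧ ∀ D ∈ T₀, D ≤ X := by
    intro C hC
    obtain ⟨D, hD, hDC⟩ := h2 C hC
    obtain ⟨X, hX, -, -⟩ := pair C D hC.1 hD.1 hDC.symm V W hV hW hVW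
      (hC.2.trans inf_le_left) (hC.2.trans inf_le_right)
      (hD.2.trans inf_le_left) (hD.2.trans inf_le_right)
    refine ⟨X, hX, fun E hE => ?_⟩
    rcases eq_or_ne C E with rfl | hne'
    · exact hX.2.1
    · obtain ⟨X', hX', hEX, -⟩ := pair C E hC.1 hE.1 hne' V W hV hW hVW
        (hC.2.trans inf_le_left) (hC.2.trans inf_le_right)
        (hE.2.trans inf_le_left) (hE.2.trans inf_le_right)
      rwa [hCbad _ hC.1 _ _ hX hX']
  choose! φ hφ hφle using hphi
  have hφne : ∀ C ∈ T₀, ∀ D ∈ T₀, C ≠ D → φ C ≠ φ D := by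
    intro C hC D hD hne' heq
    obtain ⟨X, hX, -, hnX⟩ := pair C D hC.1 hD.1 hne' V W hV hW hVW
      (hC.2.trans inf_le_left) (hC.2.trans inf_le_right)
      (hD.2.trans inf_le_left) (hD.2.trans inf_le_right)
    rw [hCbad _ hC.1 _ _ hX (hφ C hC), heq] at hnX
    exact hnX (hφ D hD)
  have hsame : ∀ X Y, IsCoatom X → IsCoatom Y → X ≠ Y → (∀ D ∈ T₀, D ≤ X) → (∀ D ∈ T₀, D ≤ Y) →
      T (X ⊓ Y) = T₀ := fun X Y hX hY hne' hx hy =>
    (Set.eq_of_subset_of_ncard_le (s := T₀) (t := T (X ⊓ Y))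
      (fun D hD => ⟨hD.1, le_inf (hx D hD) (hy D hD)⟩)
      (hmax (X, Y) ⟨hX, hY, hne'⟩) (Set.toFinite _)).symm
  obtain ⟨C₀, hC₀⟩ : T₀.Nonempty := by
    obtain ⟨D, hD, -⟩ := htwo
    refine Set.nonempty_of_ncard_ne_zero ?_
    have h1 := hmax (M, P) ⟨hM, hP, hMP⟩
    have h2' : 0 < (T (M ⊓ P)).ncard := (Set.ncard_pos (Set.toFinite _)).mpr ⟨D, hD⟩
    exact (lt_of_lt_of_le h2' h1).ne'
  have key : ∀ C ∈ T₀, normalizer ((sSup (T₀ \ {C}) : Subgroup G) : Set G) ≤
      normalizer ((sSup T₀ : Subgroup G) : Set G) ∧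
      ∀ Z, IsCoatom Z → normalizer ((sSup (T₀ \ {C}) : Subgroup G) : Set G) ≤ Z → Z = φ C := by
    intro C hC
    obtain ⟨D₁, hD₁, hD₁C⟩ := h2 C hC
    set R := sSup (T₀ \ {C}) with hR
    let S : Set (Subgroup G) := {D | IsC D ∧ D ≤ φ C ∧ ¬ Bad D (φ C)}
    have hgoodD : ∀ D ∈ T₀ \ {C}, D ∈ S := fun D hD =>
      ⟨hD.1.1, hφle C hC D hD.1, fun hb =>
        hφne C hC D hD.1 (fun e => hD.2 e.symm) (hCbad _ hD.1.1 _ _ hb (hφ D hD.1))⟩
    have hRle : R ≤ φ C := sSup_le fun D hD => hφle C hC D hD.1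
    have hRcl : normalClosure (R : Set G) = ⊤ :=
      normal_closure_mono (le_sSup ⟨hD₁, hD₁C⟩) (hCcl _ hD₁.1)
    have hCN : C ≤ normalizer (R : Set G) := by
      intro c hc
      refine CfsgLib.Subnormal.mem_normalizer_of_smul_le ?_
      rw [pointwise_smul_subset_iff]
      refine sSup_le fun E hE => ?_
      rw [← pointwise_smul_subset_iff]
      refine le_sSup ⟨?_, fun he => hE.2 ?_⟩
      · have hTXY := hsame _ _ (hφ C hC).1 (hφ D₁ hD₁).1 (hφne C hC D₁ hD₁ hD₁C.symm)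
          (hφle C hC) (hφle D₁ hD₁)
        rw [← hTXY] at hE ⊢
        have hcm : c ∈ φ C ⊓ φ D₁ := ⟨hφle C hC C hC hc, hφle D₁ hD₁ C hC hc⟩
        exact ⟨hCsmul _ hE.1.1 c, (pointwise_smul_le_pointwise_smul_iff.mpr hE.1.2).trans
          (CfsgLib.Subnormal.mem_normalizer_iff_smul.mp (le_normalizer hcm)).le⟩
      · simp only [Set.mem_singleton_iff] at he ⊢
        have := CfsgLib.Subnormal.mem_normalizer_iff_smul.mp (le_normalizer (H := C) (inv_mem hc))
        rw [← this, ← he, ← mul_smul, ← map_mul, inv_mul_cancel, map_one, one_smul]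
    have hclaim : ∀ Z, IsCoatom Z → normalizer (R : Set G) ≤ Z → Z = φ C := by
      intro Z hZ hNZ
      by_contra hZne
      by_cases hsub : S ⊆ T₀ \ {C}
      · refine hZne ((hφ C hC).1.le_iff_eq hZ.1 |>.mp ?_)
        refine le_trans (fun v hv => CfsgLib.Subnormal.mem_normalizer_of_smul_le ?_) hNZ
        rw [pointwise_smul_subset_iff]
        refine sSup_le fun E hE => ?_
        rw [← pointwise_smul_subset_iff]
        obtain ⟨h1, h2', h3⟩ := hgoodD E hE
        have hvn := CfsgLib.Subnormal.mem_normalizer_iff_smul.mp (le_normalizer (H := φ C) hv)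
        refine le_sSup (hsub ⟨hCsmul _ h1 v,
          (pointwise_smul_le_pointwise_smul_iff.mpr h2').trans hvn.le, fun hb => h3 ?_⟩)
        have h4 := hb.smul v⁻¹
        rwa [← mul_smul, ← map_mul, inv_mul_cancel, map_one, one_smul,
          CfsgLib.Subnormal.mem_normalizer_iff_smul.mp (le_normalizer (inv_mem hv))] at h4
      · obtain ⟨X, hX, hX0, hXN⟩ := CfsgLib.Subnormal.exists_mem_le_normalizer_rel (φ C) S
          (T₀ \ {C}) (fun D hD => hD.2.1)
          (fun D hD => by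
            by_contra hns
            exact hD.2.2 ⟨(hφ C hC).1, hD.2.1, hns⟩)
          (fun D hD v hv => by
            have hvn := CfsgLib.Subnormal.mem_normalizer_iff_smul.mp (le_normalizer (H := φ C) hv)
            refine ⟨hCsmul _ hD.1 v, (pointwise_smul_le_pointwise_smul_iff.mpr hD.2.1).trans hvn.le,
              fun hb => hD.2.2 ?_⟩
            have h4 := hb.smul v⁻¹
            rwa [← mul_smul, ← map_mul, inv_mul_cancel, map_one, one_smul,
              CfsgLib.Subnormal.mem_normalizer_iff_smul.mp (le_normalizer (inv_mem hv))] at h4)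
          ⟨fun D hD => hgoodD D hD, hsub⟩
        have hXT : X ∈ T (Z ⊓ φ C) := ⟨hX.1, le_inf (hXN.trans hNZ) hX.2.1⟩
        rw [hsame Z (φ C) hZ (hφ C hC).1 hZne (fun D hD => ?_) (hφle C hC)] at hXT
        · refine hX0 ⟨hXT, fun he => hX.2.2 ?_⟩
          rw [Set.mem_singleton_iff.mp he]
          exact hφ C hC
        · rcases eq_or_ne D C with rfl | hDC
          · exact hCN.trans hNZ
          · have hDR : D ≤ R := le_sSup (show D ∈ T₀ \ {C} from ⟨hD, hDC⟩)
            exact (hDR.trans le_normalizer).trans hNZ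
    refine ⟨fun n hn => ?_, hclaim⟩
    obtain ⟨Z, hZ, hNZ⟩ : ∃ Z, IsCoatom Z ∧ normalizer (R : Set G) ≤ Z := by
      rcases eq_top_or_exists_le_coatom (normalizer (R : Set G)) with h | h
      · exact absurd h (normalizer_ne_top (hφ C hC).1 hRle hRcl)
      · exact h
    have hnC : MulAut.conj n • φ C = φ C :=
      CfsgLib.Subnormal.mem_normalizer_iff_smul.mp (le_normalizer (hclaim Z hZ hNZ ▸ hNZ hn))
    have hnR := CfsgLib.Subnormal.mem_normalizer_iff_smul.mp hn
    -- the element permutes the bad maximal subgroups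
    have hbadR : ∀ D ∈ T₀ \ {C}, Bad R (φ D) := by
      intro D hD
      refine ⟨(hφ D hD.1).1, sSup_le fun E hE => hφle D hD.1 E hE.1, fun hsn => (hφ D hD.1).2.2 ?_⟩
      have hDR : (D.subgroupOf R).IsSubnormal := by
        have hsn' : (D.subgroupOf (φ C)).IsSubnormal := by
          by_contra hns
          exact (hgoodD D hD).2.2 ⟨(hφ C hC).1, hφle C hC D hD.1, hns⟩
        exact hsn'.comap (Subgroup.inclusion hRle)
      have hDle : D ≤ R := le_sSup hD
      have hDR' : ((D.subgroupOf (φ D)).subgroupOf (R.subgroupOf (φ D))).IsSubnormal :=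
        hDR.comap (((φ D).subtype.comp (R.subgroupOf (φ D)).subtype).codRestrict R fun x => x.2)
      exact IsSubnormal.trans (fun x hx => hDle hx) hDR' hsn
    have hperm : ∀ E ∈ T₀, ∃ E' ∈ T₀, MulAut.conj n • φ E = φ E' := by
      intro E hE
      rcases eq_or_ne E C with rfl | hEC
      · exact ⟨E, hE, hnC⟩
      · have h1 := (hbadR E ⟨hE, hEC⟩).smul n
        rw [hnR] at h1
        obtain ⟨E', hE', hb⟩ := exists_bad_of_sSup h1
        exact ⟨E', hE'.1, hCbad _ hE'.1.1 _ _ hb (hφ E' hE'.1)⟩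
    refine CfsgLib.Subnormal.mem_normalizer_of_smul_le ?_
    rw [pointwise_smul_subset_iff]
    refine sSup_le fun E hE => ?_
    rw [← pointwise_smul_subset_iff]
    refine le_sSup ?_
    obtain ⟨E₁, hE₁, he₁⟩ := hperm C hC
    obtain ⟨E₂, hE₂, he₂⟩ := hperm D₁ hD₁
    have hne' : φ E₁ ≠ φ E₂ := by
      rw [← he₁, ← he₂]
      exact fun h => hφne C hC D₁ hD₁ hD₁C.symm (MulAction.injective _ h)
    rw [← hsame _ _ (hφ E₁ hE₁).1 (hφ E₂ hE₂).1 hne' (hφle E₁ hE₁) (hφle E₂ hE₂)]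
    exact ⟨hCsmul _ hE.1 n, le_inf (he₁ ▸ pointwise_smul_le_pointwise_smul_iff.mpr (hφle C hC E hE))
      (he₂ ▸ pointwise_smul_le_pointwise_smul_iff.mpr (hφle D₁ hD₁ E hE))⟩
  obtain ⟨D₀, hD₀, hD₀C⟩ := h2 C₀ hC₀
  rcases eq_top_or_exists_le_coatom (normalizer ((sSup T₀ : Subgroup G) : Set G)) with h | ⟨Z, hZ, hZle⟩
  · exact normalizer_ne_top hV (sSup_le fun D hD => hD.2.trans inf_le_left)
      (normal_closure_mono (le_sSup hC₀) (hCcl _ hC₀.1)) h
  · exact hφne C₀ hC₀ D₀ hD₀ hD₀C.symm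
      (((key C₀ hC₀).2 Z hZ ((key C₀ hC₀).1.trans hZle)).symm.trans
        ((key D₀ hD₀).2 Z hZ ((key D₀ hD₀).1.trans hZle)))

/-- Uniqueness form of the generalized zipper lemma. -/
theorem existsUnique_maximal (A : Subgroup G) (hA : normalClosure (A : Set G) = ⊤) (hne : A ≠ ⊤)
    (hbad : ∀ M N, Bad A M → Bad A N → M = N) : ∃! M : Subgroup G, IsCoatom M ∧ A ≤ M := by
  rcases eq_top_or_exists_le_coatom A with h | ⟨M, hM, hle⟩
  · exact absurd h hne
  · exact ⟨M, ⟨hM, hle⟩, fun N hN =>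
      eq_of_bad_subsingleton A hA hbad N M hN.1 hM hN.2 hle⟩

end CfsgLib.Zipper
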